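import Cfsg.Agent.S2692
import Cfsg.Agent.H436.Names
import Cfsg.Agent.H436.Ppd
import Cfsg.Agent.ClassicalGeometry.PSUAutMain

/-!
# `Aut(PSU₃(Q))` : centralisers of elements of primitive order (helper441, S3938-E7-b)

`card_cent_psu3` : `S = PSU₃(p^a)` normal in `A`, `C_A(S) = 1`, `s ∈ S` of order a primitive prime divisor of
`p^(6a) - 1` ⟹ `|C_A(s)| ∣ Q² - Q + 1`, `Q = p^a`.
-/

set_option autoImplicit false

namespace Cfsg.Agent.H441.Wei

open Cfsg Cfsg.Agent.OrdDiv Cfsg.Agent.H436

/-! ### the commutant of an element of primitive prime order -/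

section Abs

theorem fix_card {α : Type*} [Finite α] (f : α → α) {r : ℕ} (hr : r.Prime) (hf : ∀ x, f^[r] x = x) :
    Nat.card α ≡ Nat.card {x // f x = x} [MOD r] := by
  classical
  have := Fintype.ofFinite α
  have : Fact r.Prime := ⟨hr⟩
  let g : Function.End α := f
  have hg : g ^ r ^ 1 = 1 := by
    rw [pow_one]
    funext x
    have h : ∀ k : ℕ, (g ^ k) x = f^[k] x := by
      intro k
      induction k with
      | zero => rfl
      | succ k ih =>
        rw [pow_succ', Function.iterate_succ', Function.comp_apply, ← ih]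
        rfl
    rw [h, hf]
    rfl
  have h := Equiv.Perm.card_fixedPoints_modEq hg
  rw [Nat.card_eq_fintype_card, Nat.card_eq_fintype_card]
  convert h using 1
  exact Fintype.card_congr (Equiv.refl _)

variable {V : Type*} [AddCommGroup V] [Finite V] {p n r : ℕ}

omit [Finite V] in
theorem iterate_eq (s : AddMonoid.End V) (k : ℕ) (x : V) : (s ^ k) x = (⇑s)^[k] x := by
  induction k with
  | zero => rfl
  | succ k ih =>
    rw [pow_succ', Function.iterate_succ', Function.comp_apply, ← ih]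
    rfl

theorem pow_mod_one (hp : p.Prime) {m : ℕ} (h : p ^ m ≡ 1 [MOD r]) : r ∣ p ^ m - 1 :=
  (Nat.modEq_iff_dvd' (Nat.one_le_pow _ _ hp.pos)).1 h.symm

theorem fix_bot (hp : p.Prime) (hV : Nat.card V = p ^ n) (hr : r.Prime) (hd : ∀ m, r ∣ p ^ m - 1 ↔ n ∣ m)
    {s : AddMonoid.End V} (hs : s ^ r = 1) (h1 : s ≠ 1) {v : V} (hv : s v = v) : v = 0 := by
  let W : AddSubgroup V := (s - 1 : AddMonoid.End V).ker
  have hW : ∀ v, v ∈ W ↔ s v = v := by
    intro v
    change s v - v = 0 ↔ _
    rw [sub_eq_zero]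
  have hc : Nat.card V ≡ Nat.card W [MOD r] := by
    have := fix_card (⇑s) hr (fun x => by rw [← iterate_eq, hs]; rfl)
    have he : Nat.card {x // s x = x} = Nat.card W :=
      Nat.card_congr (Equiv.subtypeEquivRight fun x => (hW x).symm)
    rwa [he] at this
  obtain ⟨k, hk, hWk⟩ := (Nat.dvd_prime_pow hp).1 (hV ▸ W.card_addSubgroup_dvd_card)
  have h2 : p ^ n ≡ 1 [MOD r] := ((Nat.modEq_iff_dvd' (Nat.one_le_pow _ _ hp.pos)).2 ((hd n).2 dvd_rfl)).symm
  have h3 : p ^ k ≡ 1 [MOD r] := by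
    rw [hV, hWk] at hc
    exact hc.symm.trans h2
  have h4 : n ∣ k := (hd k).1 (pow_mod_one hp h3)
  rcases Nat.eq_zero_or_pos k with h0 | h0
  · rw [h0, pow_zero] at hWk
    have := AddSubgroup.card_eq_one.1 hWk
    have hv' := (hW v).2 hv
    rw [this] at hv'
    exact AddSubgroup.mem_bot.1 hv'
  · exfalso
    have hkn : k = n := le_antisymm hk (Nat.le_of_dvd h0 h4)
    have : W = ⊤ := AddSubgroup.eq_top_of_card_eq _ (by rw [hWk, hkn, hV])
    apply h1
    ext v
    exact (hW v).1 (this ▸ AddSubgroup.mem_top v)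

theorem inv_top (hp : p.Prime) (hV : Nat.card V = p ^ n) (hr : r.Prime) (hd : ∀ m, r ∣ p ^ m - 1 ↔ n ∣ m)
    {s : AddMonoid.End V} (hs : s ^ r = 1) (h1 : s ≠ 1) (W : AddSubgroup V) (hW : ∀ w ∈ W, s w ∈ W) :
    W = ⊥ ∨ W = ⊤ := by
  let f : W → W := fun w => ⟨s w, hW w w.2⟩
  have hf : ∀ x, f^[r] x = x := by
    intro x
    apply Subtype.ext
    have h : ∀ k : ℕ, ((f^[k] x : W) : V) = (⇑s)^[k] x := by
      intro k
      induction k with
      | zero => rfl
      | succ k ih =>
        rw [Function.iterate_succ', Function.comp_apply, Function.iterate_succ', Function.comp_apply, ← ih]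
    rw [h, ← iterate_eq, hs]
    rfl
  have hc := fix_card f hr hf
  have h0 : Nat.card {x // f x = x} = 1 := by
    rw [Nat.card_eq_one_iff_unique]
    refine ⟨⟨fun a b => ?_⟩, ⟨⟨0, ?_⟩⟩⟩
    · have ha : (a : W) = 0 := Subtype.ext (fix_bot hp hV hr hd hs h1 (congrArg Subtype.val a.2))
      have hb : (b : W) = 0 := Subtype.ext (fix_bot hp hV hr hd hs h1 (congrArg Subtype.val b.2))
      exact Subtype.ext (ha.trans hb.symm)
    · apply Subtype.ext
      exact map_zero s
  obtain ⟨k, hk, hWk⟩ := (Nat.dvd_prime_pow hp).1 (hV ▸ W.card_addSubgroup_dvd_card)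
  rw [h0, hWk] at hc
  have h4 : n ∣ k := (hd k).1 (pow_mod_one hp hc)
  rcases Nat.eq_zero_or_pos k with h0 | h0
  · left
    rw [h0, pow_zero] at hWk
    exact AddSubgroup.card_eq_one.1 hWk
  · right
    have hkn : k = n := le_antisymm hk (Nat.le_of_dvd h0 h4)
    exact AddSubgroup.eq_top_of_card_eq _ (by rw [hWk, hkn, hV])

/-- a nonzero endomorphism commuting with `s` is injective -/
theorem inj_of_comm (hp : p.Prime) (hV : Nat.card V = p ^ n) (hr : r.Prime) (hd : ∀ m, r ∣ p ^ m - 1 ↔ n ∣ m)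
    {s : AddMonoid.End V} (hs : s ^ r = 1) (h1 : s ≠ 1) {x : AddMonoid.End V} (hx : x * s = s * x) (hx0 : x ≠ 0)
    {v : V} (hv : x v = 0) : v = 0 := by
  rcases inv_top hp hV hr hd hs h1 x.ker (fun w hw => by
    change x (s w) = 0
    have : x (s w) = s (x w) := DFunLike.congr_fun hx w
    rw [this, show x w = 0 from hw, map_zero]) with h | h
  · have : v ∈ x.ker := hv
    rw [h] at this
    exact AddSubgroup.mem_bot.1 this
  · exfalso
    apply hx0
    ext w
    have : w ∈ x.ker := h ▸ AddSubgroup.mem_top w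
    exact this

/-- **the commutant of `s` is generated by `s`** -/
theorem mem_closure (hp : p.Prime) (hV : Nat.card V = p ^ n) (hr : r.Prime) (hd : ∀ m, r ∣ p ^ m - 1 ↔ n ∣ m)
    (hn : 0 < n) {s : AddMonoid.End V} (hs : s ^ r = 1) (h1 : s ≠ 1) {x : AddMonoid.End V} (hx : x * s = s * x) :
    x ∈ Subring.closure ({s} : Set (AddMonoid.End V)) := by
  classical
  have : Finite (AddMonoid.End V) := Finite.of_injective (fun f : AddMonoid.End V => (f : V → V)) DFunLike.coe_injective
  let R := Subring.closure ({s} : Set (AddMonoid.End V))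
  have hcs : ∀ y ∈ R, y * s = s * y := by
    intro y hy
    induction hy using Subring.closure_induction with
    | mem y hy => rw [Set.mem_singleton_iff.1 hy]
    | zero => rw [zero_mul, mul_zero]
    | one => rw [one_mul, mul_one]
    | add a b _ _ ha hb => rw [add_mul, mul_add, ha, hb]
    | neg a _ ha => rw [neg_mul, mul_neg, ha]
    | mul a b _ _ ha hb => rw [mul_assoc, hb, ← mul_assoc, ha, mul_assoc]
  have hcR : ∀ y ∈ R, y * x = x * y := by
    intro y hy
    induction hy using Subring.closure_induction with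
    | mem y hy => rw [Set.mem_singleton_iff.1 hy, hx]
    | zero => rw [zero_mul, mul_zero]
    | one => rw [one_mul, mul_one]
    | add a b _ _ ha hb => rw [add_mul, mul_add, ha, hb]
    | neg a _ ha => rw [neg_mul, mul_neg, ha]
    | mul a b _ _ ha hb => rw [mul_assoc, hb, ← mul_assoc, ha, mul_assoc]
  have hVnt : Nontrivial V := by
    rw [← Finite.one_lt_card_iff_nontrivial, hV]
    exact Nat.one_lt_pow (by omega) hp.one_lt
  obtain ⟨v0, hv0⟩ := exists_ne (0 : V)
  -- evaluation at v0 is injective on R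
  let ev : R →+ V := { toFun := fun y => (y : AddMonoid.End V) v0, map_zero' := rfl, map_add' := fun _ _ => rfl }
  have hev : Function.Injective ev := by
    rw [injective_iff_map_eq_zero]
    intro y hy
    by_contra hy0
    exact hv0 (inj_of_comm hp hV hr hd hs h1 (hcs y y.2) (fun h => hy0 (Subtype.ext h)) hy)
  -- R is a finite domain
  have hnt : Nontrivial (AddMonoid.End V) := by
    refine ⟨0, 1, fun h => hv0 ?_⟩
    exact (DFunLike.congr_fun h v0).symm
  have hntR : Nontrivial R := ⟨0, 1, fun h => (zero_ne_one (congrArg Subtype.val h) : False)⟩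
  have hnzd : NoZeroDivisors R := by
    refine ⟨fun {a b} hab => ?_⟩
    by_contra hcon
    rw [not_or] at hcon
    obtain ⟨ha, hb⟩ := hcon
    apply hb
    apply hev
    rw [map_zero]
    refine inj_of_comm hp hV hr hd hs h1 (hcs a a.2) (fun h => ha (Subtype.ext h)) ?_
    have := congrArg (fun t : R => (t : AddMonoid.End V) v0) hab
    exact this
  have hdom : IsDomain R := NoZeroDivisors.to_isDomain R
  have hfR : Finite R := inferInstance
  -- `R` has order `p^m`, `n ∣ m`
  have hcard : Nat.card R ∣ p ^ n := by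
    rw [← hV]
    have := Nat.card_congr (AddMonoidHom.ofInjective hev).toEquiv
    rw [this]
    exact ev.range.card_addSubgroup_dvd_card
  obtain ⟨m, hm, hRm⟩ := (Nat.dvd_prime_pow hp).1 hcard
  have hR1 : 1 < Nat.card R := Finite.one_lt_card
  have hunits : Nat.card Rˣ = Nat.card R - 1 := by
    letI := Fintype.ofFinite R
    letI : DivisionRing R := Fintype.divisionRingOfIsDomain R
    exact Nat.card_units R
  let sR : R := ⟨s, Subring.subset_closure rfl⟩
  have hsR : sR ^ r = 1 := Subtype.ext hs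
  let u : Rˣ := Units.ofPowEqOne sR r hsR hr.ne_zero
  have hou : orderOf u = r := by
    have : Fact r.Prime := ⟨hr⟩
    apply orderOf_eq_prime
    · exact Units.pow_ofPowEqOne hsR hr.ne_zero
    · intro h
      apply h1
      have := congrArg (fun t : Rˣ => ((t : R) : AddMonoid.End V)) h
      exact this
  have hdiv : r ∣ p ^ m - 1 := by
    rw [← hRm, ← hunits, ← hou]
    exact orderOf_dvd_natCard u
  have hnm : n ∣ m := (hd m).1 hdiv
  have hm0 : 0 < m := by
    rcases Nat.eq_zero_or_pos m with h | h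
    · rw [h, pow_zero] at hRm
      omega
    · exact h
  have hmn : m = n := le_antisymm hm (Nat.le_of_dvd hm0 hnm)
  have hsurj : Function.Surjective ev := by
    have : Function.Bijective ev := by
      rw [Nat.bijective_iff_injective_and_card]
      exact ⟨hev, by rw [hRm, hmn, hV]⟩
    exact this.2
  obtain ⟨y, hy⟩ := hsurj (x v0)
  have hy' : (y : AddMonoid.End V) v0 = x v0 := hy
  have : x = y := by
    ext w
    obtain ⟨z, hz⟩ := hsurj w
    have hz' : (z : AddMonoid.End V) v0 = w := hz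
    rw [← hz']
    have e1 : x ((z : AddMonoid.End V) v0) = (z : AddMonoid.End V) (x v0) := (DFunLike.congr_fun (hcR z z.2) v0).symm
    have hzy : (z : AddMonoid.End V) * (y : AddMonoid.End V) = (y : AddMonoid.End V) * (z : AddMonoid.End V) := by
      have hcomm : ∀ a ∈ R, a * (y : AddMonoid.End V) = (y : AddMonoid.End V) * a := by
        intro a ha
        induction ha using Subring.closure_induction with
        | mem a ha => rw [Set.mem_singleton_iff.1 ha]; exact (hcs y y.2).symm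
        | zero => rw [zero_mul, mul_zero]
        | one => rw [one_mul, mul_one]
        | add a b _ _ ha hb => rw [add_mul, mul_add, ha, hb]
        | neg a _ ha => rw [neg_mul, mul_neg, ha]
        | mul a b _ _ ha hb => rw [mul_assoc, hb, ← mul_assoc, ha, mul_assoc]
      exact hcomm z z.2
    rw [e1, ← hy']
    exact DFunLike.congr_fun hzy v0
  rw [this]
  exact y.2

theorem comm_of_comm (hp : p.Prime) (hV : Nat.card V = p ^ n) (hr : r.Prime) (hd : ∀ m, r ∣ p ^ m - 1 ↔ n ∣ m)
    (hn : 0 < n) {s : AddMonoid.End V} (hs : s ^ r = 1) (h1 : s ≠ 1) {x y : AddMonoid.End V} (hx : x * s = s * x)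
    (hy : y * s = s * y) : x * y = y * x := by
  have := mem_closure hp hV hr hd hn hs h1 hx
  clear hx
  induction this using Subring.closure_induction with
  | mem a ha => rw [Set.mem_singleton_iff.1 ha]; exact hy.symm
  | zero => rw [zero_mul, mul_zero]
  | one => rw [one_mul, mul_one]
  | add a b _ _ ha hb => rw [add_mul, mul_add, ha, hb]
  | neg a _ ha => rw [neg_mul, mul_neg, ha]
  | mul a b _ _ ha hb => rw [mul_assoc, hb, ← mul_assoc, ha, mul_assoc]

/-- a group acting on `V` faithfully and commuting with `s` is cyclic -/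
theorem isCyclic_of_comm (hp : p.Prime) (hV : Nat.card V = p ^ n) (hr : r.Prime)
    (hd : ∀ m, r ∣ p ^ m - 1 ↔ n ∣ m) (hn : 0 < n) {s : AddMonoid.End V} (hs : s ^ r = 1) (h1 : s ≠ 1)
    {P : Type*} [Group P] [Finite P] (f : P →* AddMonoid.End V) (hf : Function.Injective f)
    (hc : ∀ g, f g * s = s * f g) : IsCyclic P := by
  let D : Subring (AddMonoid.End V) := Subring.centralizer {s}
  have hD : ∀ y, y ∈ D ↔ y * s = s * y := by
    intro y
    change (∀ m ∈ ({s} : Set _), m * y = y * m) ↔ _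
    simp only [Set.mem_singleton_iff, forall_eq]
    exact eq_comm
  letI : CommRing D := { (inferInstance : Ring D) with
    mul_comm := fun a b => Subtype.ext (comm_of_comm hp hV hr hd hn hs h1 ((hD a).1 a.2) ((hD b).1 b.2)) }
  have hVnt : Nontrivial V := by
    rw [← Finite.one_lt_card_iff_nontrivial, hV]
    exact Nat.one_lt_pow (by omega) hp.one_lt
  obtain ⟨v0, hv0⟩ := exists_ne (0 : V)
  have hntD : Nontrivial D := ⟨0, 1, fun h => hv0 (DFunLike.congr_fun (congrArg Subtype.val h) v0).symm⟩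
  have hnzd : NoZeroDivisors D := by
    refine ⟨fun {a b} hab => ?_⟩
    by_contra hcon
    rw [not_or] at hcon
    obtain ⟨ha, hb⟩ := hcon
    apply hb
    apply Subtype.ext
    ext w
    refine inj_of_comm hp hV hr hd hs h1 ((hD a).1 a.2) (fun h => ha (Subtype.ext h)) ?_
    exact DFunLike.congr_fun (congrArg Subtype.val hab) w
  have hdom : IsDomain D := NoZeroDivisors.to_isDomain D
  let f' : P →* D :=
    { toFun := fun g => ⟨f g, (hD _).2 (hc g)⟩
      map_one' := Subtype.ext (map_one f)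
      map_mul' := fun a b => Subtype.ext (map_mul f a b) }
  exact isCyclic_of_injective_ringHom f' (fun a b h => hf (congrArg Subtype.val h))

end Abs

/-! ### the unitary group -/

section U

open Matrix Cfsg.Agent.LieClassical.HermBasic Cfsg.Agent.LieClassical.HermSiegel
  Cfsg.Agent.LieClassical.HermGen Cfsg.Agent.LieClassical.SUBasic
  Cfsg.Agent.ClassicalGeometry.PSUAutCount Cfsg.Agent.LieClassical.FieldTransfer

variable {F : Type*} [Field F] {q n : ℕ}

/-- matrices as additive endomorphisms -/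
def E (n : ℕ) (F : Type*) [Field F] : Matrix (Fin n) (Fin n) F →+* AddMonoid.End (Fin n → F) where
  toFun M := (Matrix.mulVecLin M).toAddMonoidHom
  map_one' := by
    refine AddMonoidHom.ext fun v => ?_
    exact one_mulVec v
  map_mul' A B := by
    refine AddMonoidHom.ext fun v => ?_
    exact (mulVec_mulVec v A B).symm
  map_zero' := by
    refine AddMonoidHom.ext fun v => ?_
    exact zero_mulVec v
  map_add' A B := by
    refine AddMonoidHom.ext fun v => ?_
    exact add_mulVec A B v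

theorem E_apply (M : Matrix (Fin n) (Fin n) F) (v : Fin n → F) : E n F M v = M *ᵥ v := rfl

theorem E_inj : Function.Injective (E n F) := by
  intro A B h
  apply Matrix.ext_of_mulVec_single
  intro i
  exact DFunLike.congr_fun h (Pi.single i 1)

variable [Fintype F]

theorem herm_adj {p k : ℕ} [CharP F p] (hp : p.Prime) (hF : Fintype.card F = q ^ 2)
    (hqk : q ^ 3 = p ^ k) {S : Matrix (Fin n) (Fin n) F}
    (hSu : ∀ u v, hermForm n F q (S *ᵥ u) (S *ᵥ v) = hermForm n F q u v) (hS : S ^ (q ^ 3 + 1) = 1)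
    {M : Matrix (Fin n) (Fin n) F} (hM : M ∈ Subring.closure ({S} : Set (Matrix (Fin n) (Fin n) F)))
    (u v : Fin n → F) : hermForm n F q (M *ᵥ u) v = hermForm n F q u ((M ^ q ^ 3) *ᵥ v) := by
  have : Fact p.Prime := ⟨hp⟩
  have hcomm : ∀ a ∈ Subring.closure ({S} : Set (Matrix (Fin n) (Fin n) F)),
      ∀ b ∈ Subring.closure ({S} : Set (Matrix (Fin n) (Fin n) F)), Commute a b := by
    have h1 : ∀ a ∈ Subring.closure ({S} : Set (Matrix (Fin n) (Fin n) F)), Commute a S := by
      intro a ha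
      induction ha using Subring.closure_induction with
      | mem y hy => rw [Set.mem_singleton_iff.1 hy]
      | zero => exact Commute.zero_left _
      | one => exact Commute.one_left _
      | add a b _ _ ha hb => exact ha.add_left hb
      | neg a _ ha => exact ha.neg_left
      | mul a b _ _ ha hb => exact ha.mul_left hb
    intro a ha b hb
    induction hb using Subring.closure_induction with
    | mem y hy => rw [Set.mem_singleton_iff.1 hy]; exact h1 a ha
    | zero => exact Commute.zero_right _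
    | one => exact Commute.one_right _
    | add x y _ _ hx hy => exact hx.add_right hy
    | neg x _ hx => exact hx.neg_right
    | mul x y _ _ hx hy => exact hx.mul_right hy
  have hn : q ^ 3 ≠ 0 := by rw [hqk]; exact pow_ne_zero _ hp.ne_zero
  have hadd : ∀ a b : Matrix (Fin n) (Fin n) F, Commute a b → (a + b) ^ q ^ 3 = a ^ q ^ 3 + b ^ q ^ 3 := by
    intro a b hab
    rcases isEmpty_or_nonempty (Fin n) with h | h
    · exact Subsingleton.elim _ _
    · rw [hqk]
      exact add_pow_char_pow_of_commute p k hab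
  induction hM using Subring.closure_induction generalizing u v with
  | mem y hy =>
    rw [Set.mem_singleton_iff.1 hy]
    have h1 : S * S ^ q ^ 3 = 1 := by rw [← pow_succ', hS]
    calc hermForm n F q (S *ᵥ u) v = hermForm n F q (S *ᵥ u) (S *ᵥ ((S ^ q ^ 3) *ᵥ v)) := by
          rw [mulVec_mulVec, h1, one_mulVec]
      _ = _ := hSu _ _
  | zero => rw [zero_pow hn, zero_mulVec, zero_mulVec, herm_zero_left, herm_zero_right hF]
  | one => rw [one_pow, one_mulVec, one_mulVec]
  | add a b ha' hb' ha hb =>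
    rw [hadd a b (hcomm a ha' b hb'), add_mulVec, add_mulVec, herm_add_left, herm_add_right hF, ha, hb]
  | neg a ha' ha =>
    have h1 : (-a) ^ q ^ 3 = -(a ^ q ^ 3) := by
      have h2 := hadd a (-a) (Commute.neg_right (Commute.refl a))
      rw [add_neg_cancel, zero_pow hn] at h2
      exact (neg_eq_of_add_eq_zero_right h2.symm).symm
    rw [h1, neg_mulVec, neg_mulVec, herm_neg_left, herm_neg_right hF, ha]
  | mul a b ha' hb' ha hb =>
    rw [(hcomm a ha' b hb').mul_pow, ← mulVec_mulVec, ha, hb, mulVec_mulVec,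
      ((hcomm a ha' b hb').pow_pow (q ^ 3) (q ^ 3)).eq]

/-- the centraliser of `s₁` in `GU` -/
def P (s₁ : SU n F q) : Subgroup (GU n F q) where
  carrier := {A | gm A * mat s₁ = mat s₁ * gm A}
  mul_mem' {a b} ha hb := by
    change gm (a * b) * mat s₁ = mat s₁ * gm (a * b)
    rw [gm_mul, Matrix.mul_assoc, (hb : gm b * mat s₁ = mat s₁ * gm b), ← Matrix.mul_assoc,
      (ha : gm a * mat s₁ = mat s₁ * gm a), Matrix.mul_assoc]
  one_mem' := by
    change gm 1 * mat s₁ = mat s₁ * gm 1
    rw [gm_one, Matrix.one_mul, Matrix.mul_one]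
  inv_mem' {a} ha := by
    change gm a⁻¹ * mat s₁ = mat s₁ * gm a⁻¹
    have ha' : gm a * mat s₁ = mat s₁ * gm a := ha
    calc gm a⁻¹ * mat s₁ = gm a⁻¹ * (mat s₁ * gm a) * gm a⁻¹ := by
          rw [Matrix.mul_assoc, Matrix.mul_assoc, gm_mul_inv, Matrix.mul_one]
      _ = _ := by rw [← ha', ← Matrix.mul_assoc, gm_inv_mul, Matrix.one_mul]

omit [Fintype F] in
theorem toAut_mul (A B : GU n F q) :
    toAut (A * B) (RingEquiv.refl F) = toAut A (RingEquiv.refl F) * toAut B (RingEquiv.refl F) := by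
  ext x
  obtain ⟨s, rfl⟩ := QuotientGroup.mk_surjective x
  rw [MulAut.mul_apply, H198.UnitGamma.mk_toAut, H198.UnitGamma.mk_toAut, H198.UnitGamma.mk_toAut]
  congr 1
  apply Subtype.ext
  apply Subtype.ext
  change mat (semiConj (A * B) (RingEquiv.refl F) s) =
    mat (semiConj A (RingEquiv.refl F) (semiConj B (RingEquiv.refl F) s))
  rw [H198.UnitGamma.mat_semiConj, H198.UnitGamma.mat_semiConj, H198.UnitGamma.mat_semiConj, gm_mul,
    _root_.mul_inv_rev, gm_mul]
  have h (M : Matrix (Fin n) (Fin n) F) : M.map (RingEquiv.refl F) = M := rfl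
  rw [h, h]
  simp only [Matrix.mul_assoc]

/-- `GU → Aut PSU` -/
def th (n : ℕ) (F : Type*) [Field F] [Fintype F] (q : ℕ) : GU n F q →* MulAut (PSU n F q) where
  toFun A := toAut A (RingEquiv.refl F)
  map_one' := by
    ext x
    obtain ⟨s, rfl⟩ := QuotientGroup.mk_surjective x
    rw [H198.UnitGamma.mk_toAut]
    congr 1
    apply Subtype.ext
    apply Subtype.ext
    change mat (semiConj (1 : GU n F q) (RingEquiv.refl F) s) = mat s
    rw [H198.UnitGamma.mat_semiConj, inv_one, gm_one, Matrix.one_mul, Matrix.mul_one]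
    rfl
  map_mul' A B := toAut_mul A B

theorem pow_inj {p : ℕ} (hp : p.Prime) {i j : ℕ} (h : p ^ i = p ^ j) : i = j :=
  Nat.pow_right_injective hp.two_le h

/-- data: `s₁ ∈ SU₃(q)` of order `r` -/
structure Dat (p a r : ℕ) (s₁ : SU 3 F (p ^ a)) : Prop where
  hp : p.Prime
  ha : 1 ≤ a
  hF : Fintype.card F = (p ^ a) ^ 2
  hr : Prim p (6 * a) r
  hs : s₁ ^ r = 1
  h1 : s₁ ≠ 1

variable {p a r : ℕ} {s₁ : SU 3 F (p ^ a)}

theorem Dat.cardV (H : Dat p a r s₁) : Nat.card (Fin 3 → F) = p ^ (6 * a) := by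
  rw [Nat.card_eq_fintype_card, Fintype.card_pi_const, H.hF, ← pow_mul, ← pow_mul]
  congr 1
  omega

theorem Dat.Es (H : Dat p a r s₁) : (E 3 F (mat s₁)) ^ r = 1 := by
  have h (k : ℕ) : mat (s₁ ^ k) = mat s₁ ^ k := by
    induction k with
    | zero => rfl
    | succ k ih => rw [pow_succ, mat_mul, ih, pow_succ]
  rw [← map_pow, ← h, H.hs, mat_one, map_one]

theorem Dat.E1 (H : Dat p a r s₁) : E 3 F (mat s₁) ≠ 1 := by
  intro h
  rw [← map_one (E 3 F)] at h
  exact H.h1 (mat_injective ((E_inj h).trans mat_one.symm))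

theorem Dat.rq (H : Dat p a r s₁) : r ∣ (p ^ a) ^ 3 + 1 := by
  rw [← pow_mul]
  exact H.hr.dvd_add (m := a * 3) ⟨1, by ring⟩ (fun h => by
    have := Nat.le_of_dvd (by have := H.ha; omega) h
    have := H.ha
    omega)

theorem Dat.isCyclic (H : Dat p a r s₁) : IsCyclic (P s₁) := by
  have : Finite (GU 3 F (p ^ a)) := LieClassical.GUOrder.finite_GU 3
  refine isCyclic_of_comm H.hp H.cardV H.hr.prime (fun m => H.hr.dvd_iff m) (by have := H.ha; omega) H.Es H.E1
    (P := P s₁) ⟨⟨fun A => E 3 F (gm A.1), ?_⟩, ?_⟩ ?_ ?_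
  · change E 3 F (gm 1) = 1
    rw [gm_one, map_one]
  · intro A B
    change E 3 F (gm (A.1 * B.1)) = _
    rw [gm_mul, map_mul]
  · intro A B h
    exact Subtype.ext (gm_inj (E_inj h))
  · intro A
    change E 3 F (gm A.1) * E 3 F (mat s₁) = E 3 F (mat s₁) * E 3 F (gm A.1)
    rw [← map_mul, ← map_mul, A.2]

/-- commuting matrices lie in the ring generated by `s₁` -/
theorem Dat.mem (H : Dat p a r s₁) {M : Matrix (Fin 3) (Fin 3) F} (hM : M * mat s₁ = mat s₁ * M) :
    M ∈ Subring.closure ({mat s₁} : Set (Matrix (Fin 3) (Fin 3) F)) := by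
  have h := mem_closure H.hp H.cardV H.hr.prime (fun m => H.hr.dvd_iff m) (by have := H.ha; omega) H.Es H.E1
    (x := E 3 F M) (by rw [← map_mul, ← map_mul, hM])
  rw [← Set.image_singleton, ← RingHom.map_closure] at h
  obtain ⟨M', hM', h2⟩ := Subring.mem_map.1 h
  rwa [← E_inj h2]

theorem Dat.pow_one (H : Dat p a r s₁) (A : P s₁) : A ^ ((p ^ a) ^ 3 + 1) = 1 := by
  have hchar : CharP F p := by
    obtain ⟨p', hp'⟩ := CharP.exists F
    obtain ⟨n, hp'', hn⟩ := FiniteField.card F p'
    have h2 : p' ∣ p := by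
      apply hp''.dvd_of_dvd_pow (n := a * 2)
      rw [pow_mul, ← H.hF, hn]
      exact dvd_pow_self _ n.ne_zero
    rwa [(Nat.prime_dvd_prime_iff_eq hp'' H.hp).1 h2] at hp'
  have hS : mat s₁ ^ ((p ^ a) ^ 3 + 1) = 1 := by
    apply E_inj
    rw [map_pow, map_one]
    obtain ⟨k, hk⟩ := H.rq
    rw [hk, pow_mul, H.Es, _root_.one_pow]
  have hpow : ∀ k : ℕ, gm ((A.1) ^ k) = gm A.1 ^ k := by
    intro k
    induction k with
    | zero => rfl
    | succ k ih => rw [pow_succ, gm_mul, ih, pow_succ]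
  apply Subtype.ext
  apply gm_inj
  change gm (A.1 ^ ((p ^ a) ^ 3 + 1)) = gm 1
  rw [hpow, gm_one]
  have key := fun u v => herm_adj (p := p) (k := a * 3) H.hp H.hF (pow_mul p a 3).symm
    (S := mat s₁) (fun u v => (LieClassical.SUBasic.mem_SU_iff _).1 s₁.2 u v) hS (H.mem A.2) u v
  apply Matrix.ext_of_mulVec_single
  intro i
  rw [one_mulVec]
  generalize (Pi.single i 1 : Fin 3 → F) = v
  have hz : ∀ u, hermForm 3 F (p ^ a) u (gm A.1 ^ ((p ^ a) ^ 3 + 1) *ᵥ v - v) = 0 := by
    intro u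
    rw [herm_sub_right H.hF, pow_succ, ← mulVec_mulVec, ← key, herm_gm, sub_self]
  have : gm A.1 ^ ((p ^ a) ^ 3 + 1) *ᵥ v - v = 0 :=
    herm_nondeg H.hF fun u => herm_eq_zero_swap H.hF (hz u)
  exact sub_eq_zero.1 this

theorem Dat.card_P (H : Dat p a r s₁) : Nat.card (P s₁) ∣ (p ^ a) ^ 3 + 1 := by
  have := H.isCyclic
  obtain ⟨g, hg⟩ := IsCyclic.exists_generator (α := P s₁)
  rw [← orderOf_eq_card_of_forall_mem_zpowers hg]
  exact orderOf_dvd_of_pow_eq_one (H.pow_one g)

theorem card_ker (hF : Fintype.card F = q ^ 2) (hn : 3 ≤ n) : Nat.card (th n F q).ker = q + 1 := by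
  rw [← card_norm_eq_one hF]
  refine (Nat.card_congr (Equiv.ofBijective
      (fun c : {c : F // c * c ^ q = 1} => (⟨sc n c * 1, ?_⟩ : (th n F q).ker)) ⟨?_, ?_⟩)).symm
  · rw [MonoidHom.mem_ker]
    change toAut (sc n c * 1) _ = 1
    rw [toAut_sc_mul]
    exact map_one (th n F q)
  · intro c c' h
    have h1 : sc n c * 1 = sc n c' * 1 := congrArg (fun y => y.1) h
    have h3 := congrArg gm h1
    rw [gm_sc_mul, gm_sc_mul, gm_one] at h3
    have h4 := congrFun (congrFun h3 ⟨0, by omega⟩) ⟨0, by omega⟩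
    rw [Matrix.smul_apply, Matrix.smul_apply, Matrix.one_apply_eq, smul_eq_mul, smul_eq_mul, mul_one, mul_one] at h4
    exact Subtype.ext h4
  · rintro ⟨A', h⟩
    have h' : toAut (1 : GU n F q) (RingEquiv.refl F) = toAut A' (RingEquiv.refl F) := by
      have e1 : toAut (1 : GU n F q) (RingEquiv.refl F) = 1 := map_one (th n F q)
      exact e1.trans (MonoidHom.mem_ker.1 h).symm
    obtain ⟨h1, c, hc, h2⟩ := eq_of_toAut_eq hF hn h'
    refine ⟨⟨c, hc⟩, ?_⟩
    apply Subtype.ext
    apply gm_inj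
    change gm (sc n ⟨c, hc⟩ * 1) = gm A'
    rw [gm_sc_mul, h2]

theorem scalar_mem_P (s₁ : SU n F q) (hF : Fintype.card F = q ^ 2) (hn : 3 ≤ n) : (th n F q).ker ≤ P s₁ := by
  intro A h
  have h' : toAut (1 : GU n F q) (RingEquiv.refl F) = toAut A (RingEquiv.refl F) := by
    have e1 : toAut (1 : GU n F q) (RingEquiv.refl F) = 1 := map_one (th n F q)
    exact e1.trans (MonoidHom.mem_ker.1 h).symm
  obtain ⟨h1, c, hc, h2⟩ := eq_of_toAut_eq hF hn h'
  change gm A * mat s₁ = mat s₁ * gm A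
  rw [h2, gm_one, smul_mul_assoc, mul_smul_comm, Matrix.one_mul, Matrix.mul_one]

/-- elements of `Aut PSU` fixing the class of `s₁` -/
theorem Dat.stab_le (H : Dat p a r s₁) (h32 : p ^ a ≠ 2) (β : MulAut (PSU 3 F (p ^ a)))
    (hβ : β (QuotientGroup.mk s₁) = QuotientGroup.mk s₁) : ∃ A ∈ P s₁, th 3 F (p ^ a) A = β := by
  obtain ⟨A, ρ, rfl⟩ := ClassicalGeometry.PSUAutMain.exists_toAut H.hF le_rfl (fun h => h32 h.2) β
  rw [H198.UnitGamma.mk_toAut] at hβ
  have h1 := QuotientGroup.eq.1 hβ.symm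
  obtain ⟨c, hc3, hcq, hc⟩ := (mem_center_SU_iff H.hF le_rfl _).1 h1
  have hr6 : 7 ≤ r := by
    have h2 : 6 * a ∣ r - 1 := (H.hr.dvd_iff (r - 1)).1 (by
      have hcop : p.Coprime r := (Nat.coprime_primes H.hp H.hr.prime).2 (fun h => H.hr.not_dvd (h ▸ dvd_rfl))
      have := Nat.ModEq.pow_totient hcop
      rw [Nat.totient_prime H.hr.prime] at this
      exact (Nat.modEq_iff_dvd' (Nat.one_le_pow _ _ H.hp.pos)).1 this.symm)
    have h3 := H.hr.prime.two_le
    have h4 := Nat.le_of_dvd (by omega) h2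
    have := H.ha
    omega
  -- `c = 1`
  have hc' : semiConj A ρ s₁ = s₁ * suScalar (p ^ a) c hc3 hcq := by rw [← hc, mul_inv_cancel_left]
  have hcr : c ^ r = 1 := by
    have h5 : (suScalar (p ^ a) c hc3 hcq : SU 3 F (p ^ a)) ^ r = 1 := by
      have hcomm : Commute s₁ (suScalar (p ^ a) c hc3 hcq : SU 3 F (p ^ a)) :=
        (Subgroup.mem_center_iff.1 (suScalar_mem_center (p ^ a) c hc3 hcq) s₁)
      have h6 := congrArg (fun t => t ^ r) hc'
      simp only [hcomm.mul_pow, H.hs, one_mul] at h6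
      rw [← h6, ← map_pow, H.hs, map_one]
    have h7 : ∀ k : ℕ, mat ((suScalar (p ^ a) c hc3 hcq : SU 3 F (p ^ a)) ^ k) = diagonal fun _ => c ^ k := by
      intro k
      induction k with
      | zero => simp [mat_one]
      | succ k ih =>
        rw [pow_succ, mat_mul, ih]
        change _ * diagonal (fun _ => c) = _
        rw [diagonal_mul_diagonal]
        simp only [pow_succ]
    have h8 := h7 r
    rw [h5, mat_one] at h8
    have h9 := congrFun (congrFun h8 0) 0
    rw [Matrix.one_apply_eq, diagonal_apply_eq] at h9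
    exact h9.symm
  have hc1 : c = 1 := by
    have hcop : Nat.Coprime 3 r := (Nat.coprime_primes Nat.prime_three H.hr.prime).2 (by omega)
    have h10 : orderOf c ∣ Nat.gcd 3 r := Nat.dvd_gcd (orderOf_dvd_of_pow_eq_one hc3) (orderOf_dvd_of_pow_eq_one hcr)
    rw [hcop] at h10
    exact orderOf_eq_one_iff.1 (Nat.dvd_one.1 h10)
  have hfix : semiConj A ρ s₁ = s₁ := by
    rw [hc']
    subst hc1
    have : (suScalar (p ^ a) 1 hc3 hcq : SU 3 F (p ^ a)) = 1 := by
      apply mat_injective
      change diagonal (fun _ => (1 : F)) = mat 1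
      rw [mat_one, diagonal_one]
    rw [this, mul_one]
  have hmat : gm A * (mat s₁).map ρ = mat s₁ * gm A := by
    have h := congrArg mat hfix
    rw [H198.UnitGamma.mat_semiConj] at h
    calc gm A * (mat s₁).map ρ = gm A * (mat s₁).map ρ * gm A⁻¹ * gm A := by
          rw [Matrix.mul_assoc (gm A * _), gm_inv_mul, Matrix.mul_one]
      _ = _ := by rw [h]
  -- the semilinear map
  let g : AddMonoid.End (Fin 3 → F) :=
    { toFun := fun v => gm A *ᵥ fun i => ρ (v i)
      map_zero' := by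
        simp only [Pi.zero_apply, map_zero]
        exact mulVec_zero _
      map_add' := fun u v => by
        simp only [Pi.add_apply, map_add]
        exact mulVec_add _ _ _ }
  have hg : g * E 3 F (mat s₁) = E 3 F (mat s₁) * g := by
    refine AddMonoidHom.ext fun v => ?_
    change gm A *ᵥ (fun i => ρ ((mat s₁ *ᵥ v) i)) = mat s₁ *ᵥ (gm A *ᵥ fun i => ρ (v i))
    have h : (fun i => ρ ((mat s₁ *ᵥ v) i)) = (mat s₁).map ρ *ᵥ fun i => ρ (v i) := by
      funext i
      simp [mulVec, dotProduct, map_sum]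
    rw [h, mulVec_mulVec, mulVec_mulVec, hmat]
  have hρ : ρ = RingEquiv.refl F := by
    ext l
    have hl : E 3 F (l • 1) * E 3 F (mat s₁) = E 3 F (mat s₁) * E 3 F (l • 1) := by
      rw [← map_mul, ← map_mul, smul_mul_assoc, mul_smul_comm, Matrix.one_mul, Matrix.mul_one]
    have hcm := comm_of_comm H.hp H.cardV H.hr.prime (fun m => H.hr.dvd_iff m) (by have := H.ha; omega) H.Es H.E1
      hg hl
    have h := DFunLike.congr_fun hcm (fun _ => 1)
    change gm A *ᵥ (fun i => ρ (((l • (1 : Matrix (Fin 3) (Fin 3) F)) *ᵥ fun _ => 1) i)) =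
      (l • (1 : Matrix (Fin 3) (Fin 3) F)) *ᵥ (gm A *ᵥ fun i => ρ 1) at h
    rw [smul_mulVec, smul_mulVec, one_mulVec, one_mulVec] at h
    have h2 : (fun i : Fin 3 => ρ ((l • (fun _ => (1 : F)) : Fin 3 → F) i)) = ρ l • (fun _ => (1 : F)) := by
      funext i
      simp
    rw [h2, map_one, mulVec_smul, ← sub_eq_zero, ← sub_smul] at h
    rcases smul_eq_zero.1 h with h3 | h3
    · exact sub_eq_zero.1 h3
    · exfalso
      have h4 := gm_inv_mulVec A (fun _ => (1 : F))
      rw [h3, mulVec_zero] at h4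
      exact zero_ne_one (congrFun h4 0)
  subst hρ
  exact ⟨A, hmat, rfl⟩

theorem Dat.card_stab (H : Dat p a r s₁) (h32 : p ^ a ≠ 2) (K : Subgroup (MulAut (PSU 3 F (p ^ a))))
    (hK : ∀ β ∈ K, β (QuotientGroup.mk s₁) = QuotientGroup.mk s₁) :
    Nat.card K ∣ (p ^ a) ^ 2 - p ^ a + 1 := by
  have hfin : Finite (GU 3 F (p ^ a)) := LieClassical.GUOrder.finite_GU 3
  have hle : K ≤ (P s₁).map (th 3 F (p ^ a)) := by
    intro β hβ
    obtain ⟨A, hA, h⟩ := H.stab_le h32 β (hK β hβ)
    exact ⟨A, hA, h⟩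
  have h1 := Subgroup.card_dvd_of_le hle
  have h2 : Nat.card ((P s₁).map (th 3 F (p ^ a))) * (p ^ a + 1) = Nat.card (P s₁) := by
    let f := (th 3 F (p ^ a)).subgroupMap (P s₁)
    have hf : Function.Surjective f := (th 3 F (p ^ a)).subgroupMap_surjective (P s₁)
    have h3 := Subgroup.card_eq_card_quotient_mul_card_subgroup f.ker
    rw [Nat.card_congr (QuotientGroup.quotientKerEquivOfSurjective f hf).toEquiv] at h3
    rw [h3, ← card_ker (n := 3) H.hF le_rfl]
    congr 1
    refine Nat.card_congr (Equiv.ofBijective (fun A : (th 3 F (p ^ a)).ker =>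
      (⟨⟨A.1, scalar_mem_P s₁ H.hF le_rfl A.2⟩, ?_⟩ : f.ker)) ⟨?_, ?_⟩)
    · exact Subtype.ext A.2
    · intro A B h
      exact Subtype.ext (congrArg (fun t : f.ker => t.1.1) h)
    · rintro ⟨⟨A, hA⟩, h⟩
      exact ⟨⟨A, congrArg Subtype.val h⟩, rfl⟩
  have h3 := H.card_P
  rw [← h2] at h3
  have h4 : (p ^ a) ^ 3 + 1 = ((p ^ a) ^ 2 - p ^ a + 1) * (p ^ a + 1) := by
    generalize p ^ a = q
    have hq : q ≤ q ^ 2 := Nat.le_self_pow (by norm_num) q
    zify [hq]
    ring
  rw [h4] at h3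
  exact h1.trans (Nat.dvd_of_mul_dvd_mul_right (Nat.succ_pos _) h3)

end U

/-- **`|C_A(s)| ∣ Q² - Q + 1`** -/
theorem card_cent_psu3 {p a : ℕ} (hp : p.Prime) (ha : 1 ≤ a) (h2 : p ^ a ≠ 2) {A : Type*} [Group A] [Finite A]
    (S : Subgroup A) [S.Normal] (hC : Subgroup.centralizer (S : Set A) = ⊥) (hS : IsNamed (.psu 3 (p ^ a)) ↥S)
    {r : ℕ} (hr : Prim p (6 * a) r) {s : A} (hs : s ∈ S) (ho : orderOf s = r) :
    Nat.card ↥(Subgroup.centralizer {s} : Subgroup A) ∣ (p ^ a) ^ 2 - p ^ a + 1 := by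
  obtain ⟨F, iF, iF', hF, ⟨e⟩⟩ := hS.real
  -- a lift of order `r`
  obtain ⟨s₀, hs₀⟩ := QuotientGroup.mk_surjective (e ⟨s, hs⟩)
  have hes : (e ⟨s, hs⟩) ^ r = 1 := by
    rw [← map_pow]
    have : (⟨s, hs⟩ : S) ^ r = 1 := Subtype.ext (by
      change s ^ r = 1
      rw [← ho]; exact pow_orderOf_eq_one s)
    rw [this, map_one]
  have hr1 : r ≠ 1 := hr.prime.ne_one
  have hne : e ⟨s, hs⟩ ≠ 1 := by
    intro h
    have h2 : (⟨s, hs⟩ : S) = 1 := e.injective (h.trans (map_one e).symm)
    have h3 : s = 1 := congrArg Subtype.val h2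
    rw [h3, orderOf_one] at ho
    exact hr1 ho.symm
  have hr7 : 7 ≤ r := by
    have h2 : 6 * a ∣ r - 1 := (hr.dvd_iff (r - 1)).1 (by
      have hcop : p.Coprime r := (Nat.coprime_primes hp hr.prime).2 (fun h => hr.not_dvd (h ▸ dvd_rfl))
      have := Nat.ModEq.pow_totient hcop
      rw [Nat.totient_prime hr.prime] at this
      exact (Nat.modEq_iff_dvd' (Nat.one_le_pow _ _ hp.pos)).1 this.symm)
    have h3 := hr.prime.two_le
    have h4 := Nat.le_of_dvd (by omega) h2
    omega
  have hcen : s₀ ^ r ∈ Subgroup.center (SU 3 F (p ^ a)) := by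
    rw [← QuotientGroup.eq_one_iff]
    change ((s₀ : PSU 3 F (p ^ a)) ^ r) = 1
    rw [hs₀, hes]
  have h3r : (s₀ ^ r) ^ 3 = 1 := by
    have h5 := S0279.result hF 3 le_rfl
    have h6 : (⟨s₀ ^ r, hcen⟩ : Subgroup.center (SU 3 F (p ^ a))) ^ 3 = 1 := by
      apply orderOf_dvd_iff_pow_eq_one.1
      refine (orderOf_dvd_natCard _).trans ?_
      rw [h5]
      exact Nat.gcd_dvd_left _ _
    exact congrArg Subtype.val h6
  have hcop : Nat.Coprime 3 r := (Nat.coprime_primes Nat.prime_three hr.prime).2 (by omega)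
  obtain ⟨k, hk1, hk2⟩ := Nat.chineseRemainder hcop 0 1
  have hk3 : 3 ∣ k := (Nat.modEq_zero_iff_dvd).1 hk1
  have hsk : (QuotientGroup.mk (s₀ ^ k) : PSU 3 F (p ^ a)) = e ⟨s, hs⟩ := by
    change ((s₀ : PSU 3 F (p ^ a)) ^ k) = _
    rw [hs₀]
    have : (e ⟨s, hs⟩) ^ k = (e ⟨s, hs⟩) ^ 1 := by
      rw [pow_eq_pow_iff_modEq]
      exact hk2.of_dvd (orderOf_dvd_of_pow_eq_one hes)
    rw [this, pow_one]
  have D : Dat p a r (s₀ ^ k) :=
    { hp := hp
      ha := ha
      hF := hF
      hr := hr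
      hs := by
        obtain ⟨m, rfl⟩ := hk3
        rw [← pow_mul, show 3 * m * r = (r * 3) * m by ring, pow_mul, pow_mul, h3r, one_pow]
      h1 := by
        intro h
        rw [h] at hsk
        exact hne hsk.symm }
  -- the embedding
  let φ : A →* MulAut (PSU 3 F (p ^ a)) :=
    (MulAut.congr e).toMonoidHom.comp (MulAut.conjNormal (H := S))
  have hφ : Function.Injective φ := by
    rw [injective_iff_map_eq_one]
    intro x hx
    have h1 : MulAut.conjNormal (H := S) x = 1 := (MulAut.congr e).injective (hx.trans (map_one _).symm)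
    have h2 : x ∈ Subgroup.centralizer (S : Set A) := by
      rw [Subgroup.mem_centralizer_iff]
      intro y hy
      have h3 := congrArg (fun t : MulAut S => ((t ⟨y, hy⟩ : S) : A)) h1
      have h4 : x * y * x⁻¹ = y := h3
      rw [mul_inv_eq_iff_eq_mul] at h4
      exact h4.symm
    rw [hC] at h2
    exact Subgroup.mem_bot.1 h2
  have hcard : Nat.card (Subgroup.centralizer ({s} : Set A)) =
      Nat.card ((Subgroup.centralizer ({s} : Set A)).map φ) :=
    Nat.card_congr ((Subgroup.centralizer ({s} : Set A)).equivMapOfInjective φ hφ).toEquiv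
  rw [hcard]
  apply D.card_stab h2
  rintro _ ⟨x, hx, rfl⟩
  have hx' : x * s * x⁻¹ = s := by
    rw [mul_inv_eq_iff_eq_mul]
    exact (Subgroup.mem_centralizer_singleton_iff.1 hx)
  rw [hsk]
  change e (MulAut.conjNormal x (e.symm (e ⟨s, hs⟩))) = e ⟨s, hs⟩
  rw [e.symm_apply_apply]
  congr 1
  exact Subtype.ext hx'

end Cfsg.Agent.H441.Wei
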